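import Groth.Prelude.Def_W4c6intromoduliQuartic
import Mathlib.Tactic.Ring
import Mathlib.Tactic.LinearCombination
import Mathlib.Tactic.FinCases
import Mathlib.Tactic.NormNum
import Mathlib.LinearAlgebra.Matrix.NonsingularInverse
import Mathlib.Algebra.Polynomial.AlgebraMap
import Mathlib.Algebra.BigOperators.Fin
import Mathlib.Algebra.Field.Basic

/-!
# Split binary quartics
-/

universe u

namespace GrothLib.Quartic

open W4c6intromoduli

variable {R : Type u} [CommRing R]

/-- `la j * mu i - la i * mu j`. -/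
def dd (la mu : Fin 4 → R) (i j : Fin 4) : R := la j * mu i - la i * mu j

/-- First pairing product. -/
def uu (la mu : Fin 4 → R) : R := dd la mu 0 1 * dd la mu 2 3

/-- Third pairing product. -/
def ww (la mu : Fin 4 → R) : R := dd la mu 0 3 * dd la mu 1 2

theorem dd_02_13 (la mu : Fin 4 → R) : dd la mu 0 2 * dd la mu 1 3 = uu la mu + ww la mu := by
  simp only [dd, uu, ww]; ring

theorem disc_eq (la mu : Fin 4 → R) :
    disc la mu = uu la mu ^ 2 * ww la mu ^ 2 * (uu la mu + ww la mu) ^ 2 := by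
  rw [disc, show ((Finset.univ : Finset (Fin 4 × Fin 4)).filter fun p => p.1 < p.2) =
    {(0, 1), (0, 2), (0, 3), (1, 2), (1, 3), (2, 3)} from by decide]
  repeat rw [Finset.prod_insert (by decide)]
  rw [Finset.prod_singleton, ← dd_02_13]
  simp only [dd, uu, ww]; ring

theorem invI_eq (la mu : Fin 4 → R) :
    invI (coef la mu) = uu la mu ^ 2 + uu la mu * ww la mu + ww la mu ^ 2 := by
  have h : ∀ i, coef la mu i =
      (∏ l : Fin 4, (Polynomial.C (mu l) - Polynomial.C (la l) * Polynomial.X)).coeff i := fun i => rfl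
  simp only [invI, h, Fin.prod_univ_four]
  simp only [Polynomial.coeff_mul, Finset.Nat.sum_antidiagonal_eq_sum_range_succ_mk, Finset.sum_range_succ,
    Finset.sum_range_zero, Polynomial.coeff_sub, Polynomial.coeff_C, Polynomial.coeff_C_mul, Polynomial.coeff_X]
  norm_num
  simp only [dd, uu, ww]; ring

theorem invJ_sq_eq (la mu : Fin 4 → R) :
    invJ (coef la mu) ^ 2 = ((uu la mu - ww la mu) * (2 * uu la mu + ww la mu) * (uu la mu + 2 * ww la mu)) ^ 2 := by
  have h : ∀ i, coef la mu i =
      (∏ l : Fin 4, (Polynomial.C (mu l) - Polynomial.C (la l) * Polynomial.X)).coeff i := fun i => rfl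
  simp only [invJ, h, Fin.prod_univ_four]
  simp only [Polynomial.coeff_mul, Finset.Nat.sum_antidiagonal_eq_sum_range_succ_mk, Finset.sum_range_succ,
    Finset.sum_range_zero, Polynomial.coeff_sub, Polynomial.coeff_C, Polynomial.coeff_C_mul, Polynomial.coeff_X]
  norm_num
  simp only [dd, uu, ww]; ring

variable {k : Type u} [Field k]

theorem dd_trans (la mu : Fin 4 → k) (hne : ∀ i, la i ≠ 0 ∨ mu i ≠ 0) {i j l : Fin 4}
    (h1 : dd la mu i j = 0) (h2 : dd la mu j l = 0) : dd la mu i l = 0 := by
  simp only [dd] at *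
  rcases hne j with h | h
  · refine (mul_eq_zero.1 (?_ : la j * _ = 0)).resolve_left h
    linear_combination la l * h1 + la i * h2
  · refine (mul_eq_zero.1 (?_ : mu j * _ = 0)).resolve_left h
    linear_combination mu l * h1 + mu i * h2

theorem dd_symm (la mu : Fin 4 → R) {i j : Fin 4} (h : dd la mu i j = 0) : dd la mu j i = 0 := by
  simp only [dd] at *; linear_combination -h

/-- The invariants `I, J` vanish together iff there is a triple root. -/
theorem invI_invJ_eq_zero_iff (h3 : (3 : k) ≠ 0) (la mu : Fin 4 → k) (hne : ∀ i, la i ≠ 0 ∨ mu i ≠ 0) :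
    (invI (coef la mu) = 0 ∧ invJ (coef la mu) = 0) ↔
      ∃ i j l : Fin 4, i ≠ j ∧ j ≠ l ∧ i ≠ l ∧ la i * mu j = la j * mu i ∧ la j * mu l = la l * mu j := by
  have hd : ∀ i j, la i * mu j = la j * mu i ↔ dd la mu i j = 0 := fun i j =>
    ⟨fun h => by simp only [dd]; linear_combination -h, fun h => by simp only [dd] at h; linear_combination -h⟩
  simp only [hd]
  constructor
  · rintro ⟨hI, hJ⟩
    have hI' := invI_eq la mu
    have hJ' := invJ_sq_eq la mu
    rw [hI] at hI'
    rw [hJ, zero_pow two_ne_zero] at hJ'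
    have h27 : (27 : k) ≠ 0 := by rw [show (27 : k) = 3 ^ 3 by norm_num]; exact pow_ne_zero 3 h3
    set a := uu la mu with ha
    set c := ww la mu with hc
    have hD : a ^ 2 * c ^ 2 * (a + c) ^ 2 = 0 :=
      (mul_eq_zero.1 (?_ : (27 : k) * _ = 0)).resolve_left h27
    swap
    · linear_combination -4 * (a ^ 2 + a * c + c ^ 2) ^ 2 * hI' + hJ'
    have h0 : a = 0 ∧ c = 0 := by
      rcases mul_eq_zero.1 hD with h | h
      · rcases mul_eq_zero.1 h with h | h <;> simp only [pow_eq_zero_iff two_ne_zero] at h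
        · refine ⟨h, pow_eq_zero_iff two_ne_zero |>.1 ?_⟩
          rw [h] at hI'; linear_combination -hI'
        · refine ⟨pow_eq_zero_iff two_ne_zero |>.1 ?_, h⟩
          rw [h] at hI'; linear_combination -hI'
      · simp only [pow_eq_zero_iff two_ne_zero] at h
        have hc0 : c = -a := by linear_combination h
        have ha0 : a = 0 := pow_eq_zero_iff two_ne_zero |>.1 (by rw [hc0] at hI'; linear_combination -hI')
        exact ⟨ha0, by rw [hc0, ha0, neg_zero]⟩
    have hb : dd la mu 0 2 * dd la mu 1 3 = 0 := by rw [dd_02_13, ← ha, ← hc, h0.1, h0.2, add_zero]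
    rcases mul_eq_zero.1 (show dd la mu 0 1 * dd la mu 2 3 = 0 from h0.1) with p | p <;>
      rcases mul_eq_zero.1 hb with q | q <;>
      rcases mul_eq_zero.1 (show dd la mu 0 3 * dd la mu 1 2 = 0 from h0.2) with r | r
    · exact ⟨1, 0, 2, by decide, by decide, by decide, dd_symm _ _ p, q⟩
    · exact ⟨0, 1, 2, by decide, by decide, by decide, p, r⟩
    · exact ⟨0, 1, 3, by decide, by decide, by decide, p, q⟩
    · exact ⟨0, 1, 2, by decide, by decide, by decide, p, r⟩
    · exact ⟨0, 2, 3, by decide, by decide, by decide, q, p⟩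
    · exact ⟨0, 2, 3, by decide, by decide, by decide, q, p⟩
    · exact ⟨1, 3, 2, by decide, by decide, by decide, q, dd_symm _ _ p⟩
    · exact ⟨1, 2, 3, by decide, by decide, by decide, r, p⟩
  · rintro ⟨i, j, l, hij, hjl, hil, h1, h2⟩
    have h3' := dd_trans la mu hne h1 h2
    have hb : uu la mu = 0 ∧ ww la mu = 0 := by
      have e1 := dd_symm _ _ h1
      have e2 := dd_symm _ _ h2
      have e3 := dd_symm _ _ h3'
      fin_cases i <;> fin_cases j <;> fin_cases l <;> simp_all [uu, ww]
    refine ⟨by rw [invI_eq, hb.1, hb.2]; ring, pow_eq_zero_iff two_ne_zero |>.1 ?_⟩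
    rw [invJ_sq_eq, hb.1, hb.2]; ring

end GrothLib.Quartic
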