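import Groth.Agent.Lib.Quartic.Basic
import Mathlib.Algebra.MvPolynomial.Basic
import Mathlib.Algebra.Polynomial.Div
import Mathlib.GroupTheory.Perm.Basic
import Mathlib.LinearAlgebra.Matrix.Determinant.Basic

/-!
# Normal forms of split binary quartics
-/

universe u

namespace GrothLib.Quartic

open W4c6intromoduli

variable {k : Type u} [Field k]

open MvPolynomial (C X)

/-- The linear form of the `i`-th root point. -/
noncomputable def lin (la mu : Fin 4 → k) (i : Fin 4) : MvPolynomial (Fin 2) k := C (mu i) * X 0 - C (la i) * X 1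

theorem binForm_eq (la mu : Fin 4 → k) :
    binForm la mu = lin la mu 0 * lin la mu 1 * lin la mu 2 * lin la mu 3 := by
  rw [binForm, Fin.prod_univ_four]; rfl

theorem binForm_perm (la mu : Fin 4 → k) (σ : Equiv.Perm (Fin 4)) :
    binForm (la ∘ σ) (mu ∘ σ) = binForm la mu :=
  Equiv.prod_comp σ fun i => C (mu i) * X 0 - C (la i) * X 1

/-- Any root form is a combination of two independent ones. -/
theorem lin_decomp (la mu : Fin 4 → k) (i j l : Fin 4) :
    C (dd la mu i j) * lin la mu l = C (dd la mu l j) * lin la mu i + C (dd la mu i l) * lin la mu j := by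
  simp only [lin, dd, map_sub, map_mul]; ring

theorem subst_linear (M : Matrix (Fin 2) (Fin 2) k) (a b : k) :
    subst M (C a * X 0 - C b * X 1) = C (a * M 0 0 - b * M 1 0) * X 0 + C (a * M 0 1 - b * M 1 1) * X 1 := by
  simp [subst, Fin.sum_univ_two]; ring

theorem subst_C (M : Matrix (Fin 2) (Fin 2) k) (a : k) : subst M (C a) = C a := MvPolynomial.algHom_C _ a

/-- A substitution carrying two independent root forms to prescribed multiples of two others. -/
theorem exists_subst (la mu la' mu' : Fin 4 → k) (h : dd la mu 0 1 ≠ 0) (h' : dd la' mu' 0 1 ≠ 0)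
    {a b : k} (ha : a ≠ 0) (hb : b ≠ 0) :
    ∃ M : Matrix (Fin 2) (Fin 2) k, IsUnit M.det ∧ subst M (lin la mu 0) = C a * lin la' mu' 0 ∧
      subst M (lin la mu 1) = C b * lin la' mu' 1 := by
  let F : Matrix (Fin 2) (Fin 2) k := !![mu 0, -la 0; mu 1, -la 1]
  let G : Matrix (Fin 2) (Fin 2) k := !![a * mu' 0, -(a * la' 0); b * mu' 1, -(b * la' 1)]
  have hF : IsUnit F.det := by
    refine isUnit_iff_ne_zero.2 fun e => h ?_
    rw [Matrix.det_fin_two_of] at e
    simp only [dd]; linear_combination -e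
  have hG : IsUnit G.det := by
    refine isUnit_iff_ne_zero.2 fun e => h' ?_
    rw [Matrix.det_fin_two_of] at e
    refine (mul_eq_zero.1 (?_ : (a * b) * dd la' mu' 0 1 = 0)).resolve_left (mul_ne_zero ha hb)
    simp only [dd]; linear_combination -e
  refine ⟨F⁻¹ * G, by rw [Matrix.det_mul]; exact (Matrix.isUnit_nonsing_inv_det _ hF).mul hG, ?_⟩
  have hM : F * (F⁻¹ * G) = G := Matrix.mul_nonsing_inv_cancel_left _ _ hF
  generalize F⁻¹ * G = M at hM ⊢
  have e := fun i j => congrFun (congrFun hM i) j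
  have e00 := e 0 0; have e01 := e 0 1; have e10 := e 1 0; have e11 := e 1 1
  simp [F, G, Matrix.mul_apply, Fin.sum_univ_two] at e00 e01 e10 e11
  constructor
  · rw [lin, subst_linear, show mu 0 * M 0 0 - la 0 * M 1 0 = a * mu' 0 by linear_combination e00,
      show mu 0 * M 0 1 - la 0 * M 1 1 = -(a * la' 0) by linear_combination e01]
    simp only [lin, map_mul, map_neg]; ring
  · rw [lin, subst_linear, show mu 1 * M 0 0 - la 1 * M 1 0 = b * mu' 1 by linear_combination e10,
      show mu 1 * M 0 1 - la 1 * M 1 1 = -(b * la' 1) by linear_combination e11]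
    simp only [lin, map_mul, map_neg]; ring

theorem dd_ne_zero (la mu : Fin 4 → k) (hd : disc la mu ≠ 0) :
    dd la mu 0 1 ≠ 0 ∧ dd la mu 0 2 ≠ 0 ∧ dd la mu 0 3 ≠ 0 ∧ dd la mu 1 2 ≠ 0 ∧ dd la mu 1 3 ≠ 0 ∧ dd la mu 2 3 ≠ 0 := by
  rw [disc_eq, ← dd_02_13] at hd
  simp only [uu, ww, mul_ne_zero_iff, pow_ne_zero_iff two_ne_zero] at hd
  tauto

/-- Equal cross ratios give equivalent quartics. -/
theorem equiv_of_cross (la mu la' mu' : Fin 4 → k) (hd : disc la mu ≠ 0) (hd' : disc la' mu' ≠ 0)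
    (h : uu la' mu' * ww la mu = uu la mu * ww la' mu') :
    ∃ (M : Matrix (Fin 2) (Fin 2) k) (c : k), IsUnit M.det ∧ c ≠ 0 ∧
      binForm la' mu' = C c * subst M (binForm la mu) := by
  obtain ⟨h01, h02, h03, h12, h13, h23⟩ := dd_ne_zero la mu hd
  obtain ⟨g01, g02, g03, g12, g13, g23⟩ := dd_ne_zero la' mu' hd'
  set d := dd la mu with hdd
  set d' := dd la' mu' with hdd'
  have sd : ∀ i j, d j i = -d i j := fun i j => by simp only [hdd, dd]; ring
  have sd' : ∀ i j, d' j i = -d' i j := fun i j => by simp only [hdd', dd]; ring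
  set a : k := d' 1 2 / d 1 2 with ha
  set b : k := d' 0 2 / d 0 2 with hb
  obtain ⟨M, hM, h0, h1⟩ := exists_subst la mu la' mu' h01 g01 (a := a) (b := b)
    (div_ne_zero g12 h12) (div_ne_zero g02 h02)
  set g2 : k := d' 0 1 / d 0 1 with hg2
  have h2 : subst M (lin la mu 2) = C g2 * lin la' mu' 2 := by
    have e := congrArg (subst M) (lin_decomp la mu 0 1 2)
    rw [map_mul, map_add, map_mul, map_mul, subst_C, subst_C, subst_C, h0, h1] at e
    have e' := lin_decomp la' mu' 0 1 2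
    rw [← hdd] at e; rw [← hdd'] at e'
    refine mul_left_cancel₀ ((map_ne_zero_iff _ (MvPolynomial.C_injective _ _)).2 h01) (e.trans ?_)
    rw [← mul_assoc, ← mul_assoc, ← map_mul, ← map_mul, ← mul_assoc, ← map_mul,
      show d 2 1 * a = d' 2 1 by rw [ha, sd 1 2, sd' 1 2]; field_simp,
      show d 0 2 * b = d' 0 2 by rw [hb]; field_simp, ← e', show d 0 1 * g2 = d' 0 1 by rw [hg2]; field_simp]
  set g3 : k := d 1 3 * a * d' 0 1 / (d 0 1 * d' 1 3) with hg3
  have h3 : subst M (lin la mu 3) = C g3 * lin la' mu' 3 := by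
    have e := congrArg (subst M) (lin_decomp la mu 0 1 3)
    rw [map_mul, map_add, map_mul, map_mul, subst_C, subst_C, subst_C, h0, h1] at e
    have e' := lin_decomp la' mu' 0 1 3
    rw [← hdd] at e; rw [← hdd'] at e'
    refine mul_left_cancel₀ ((map_ne_zero_iff _ (MvPolynomial.C_injective _ _)).2 h01) (e.trans ?_)
    set q : k := d 1 3 * a / d' 1 3 with hq
    have k1 : d 3 1 * a = q * d' 3 1 := by rw [hq, sd 1 3, sd' 1 3]; field_simp
    have k2 : d 0 3 * b = q * d' 0 3 := by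
      have hc : d' 0 2 * d' 1 3 * (d 0 3 * d 1 2) = d 0 2 * d 1 3 * (d' 0 3 * d' 1 2) := by
        rw [hdd, hdd', dd_02_13, dd_02_13]
        simp only [uu, ww] at h ⊢
        linear_combination h
      rw [hq, ha, hb]; field_simp; linear_combination hc
    have k3 : d 0 1 * g3 = q * d' 0 1 := by rw [hq, hg3]; field_simp
    rw [← mul_assoc, ← mul_assoc, ← map_mul, ← map_mul, ← mul_assoc, ← map_mul, k1, k2, k3]
    simp only [map_mul]
    linear_combination -(C q) * e'
  have hc : a * b * g2 * g3 ≠ 0 := by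
    have ha0 : a ≠ 0 := div_ne_zero g12 h12
    exact mul_ne_zero (mul_ne_zero (mul_ne_zero ha0 (div_ne_zero g02 h02)) (div_ne_zero g01 h01))
      (div_ne_zero (mul_ne_zero (mul_ne_zero h13 ha0) g01) (mul_ne_zero h01 g13))
  refine ⟨M, (a * b * g2 * g3)⁻¹, hM, inv_ne_zero hc, ?_⟩
  rw [binForm_eq, binForm_eq, map_mul, map_mul, map_mul, h0, h1, h2, h3]
  have : (C (a * b * g2 * g3)⁻¹ : MvPolynomial (Fin 2) k) * C (a * b * g2 * g3) = 1 := by
    rw [← map_mul, inv_mul_cancel₀ hc, map_one]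
  simp only [map_mul] at this ⊢
  linear_combination -(lin la' mu' 0 * lin la' mu' 1 * lin la' mu' 2 * lin la' mu' 3) * this

theorem disc_perm_ne_zero (la mu : Fin 4 → k) (hd : disc la mu ≠ 0) (σ : Equiv.Perm (Fin 4)) :
    disc (la ∘ σ) (mu ∘ σ) ≠ 0 := by
  rw [disc, Finset.prod_ne_zero_iff] at *
  intro p hp
  rw [Finset.mem_filter] at hp
  rcases lt_trichotomy (σ p.1) (σ p.2) with hlt | heq | hgt
  · simpa using hd (σ p.1, σ p.2) (by simp [hlt])
  · exact absurd (σ.injective heq) hp.2.ne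
  · have := hd (σ p.2, σ p.1) (by simp [hgt])
    intro e; apply this
    simp only [Function.comp_apply] at e ⊢
    linear_combination e

/-- Quartics with the same `I ^ 3 : J ^ 2` are equivalent. -/
theorem equiv_of_invariants (h3 : (3 : k) ≠ 0) (la mu la' mu' : Fin 4 → k)
    (hd : disc la mu ≠ 0) (hd' : disc la' mu' ≠ 0)
    (h : invI (coef la mu) ^ 3 * invJ (coef la' mu') ^ 2 = invI (coef la' mu') ^ 3 * invJ (coef la mu) ^ 2) :
    ∃ (M : Matrix (Fin 2) (Fin 2) k) (c : k), IsUnit M.det ∧ c ≠ 0 ∧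
      binForm la' mu' = C c * subst M (binForm la mu) := by
  rw [invI_eq, invI_eq, invJ_sq_eq, invJ_sq_eq] at h
  set u := uu la mu with hu
  set w := ww la mu with hw
  set u' := uu la' mu' with hu'
  set w' := ww la' mu' with hw'
  have h27 : (27 : k) ≠ 0 := by rw [show (27 : k) = 3 ^ 3 by norm_num]; exact pow_ne_zero 3 h3
  have hprod : (u' * w - w' * u) * (u' * u - w' * w) * (u' * w - w' * (-u - w)) *
      (u' * (-u - w) - w' * w) * (u' * (-u - w) - w' * u) * (u' * u - w' * (-u - w)) = 0 := by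
    refine (mul_eq_zero.1 (?_ : (27 : k) * _ = 0)).resolve_left h27
    linear_combination h
  have hswap : ∀ σ : Equiv.Perm (Fin 4),
      u' * ww (la ∘ σ) (mu ∘ σ) = uu (la ∘ σ) (mu ∘ σ) * w' →
      ∃ (M : Matrix (Fin 2) (Fin 2) k) (c : k), IsUnit M.det ∧ c ≠ 0 ∧
        binForm la' mu' = C c * subst M (binForm la mu) := by
    intro σ hσ
    rw [← binForm_perm la mu σ]
    exact equiv_of_cross (la ∘ σ) (mu ∘ σ) la' mu' (disc_perm_ne_zero la mu hd σ) hd' hσ
  rcases mul_eq_zero.1 hprod with h | h6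
  swap
  · refine hswap (Equiv.swap 1 2 * Equiv.swap 2 3) ?_
    simp only [hu, hw, uu, ww, dd, Equiv.Perm.coe_mul, Function.comp_apply, Equiv.swap_apply_def] at h6 ⊢
    simp (config := { decide := true }) only [↓reduceIte]
    first | linear_combination h6 | linear_combination -h6
  rcases mul_eq_zero.1 h with h | h5
  swap
  · refine hswap (Equiv.swap 2 3) ?_
    simp only [hu, hw, uu, ww, dd, Equiv.Perm.coe_mul, Function.comp_apply, Equiv.swap_apply_def] at h5 ⊢
    simp (config := { decide := true }) only [↓reduceIte]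
    first | linear_combination h5 | linear_combination -h5
  rcases mul_eq_zero.1 h with h | h4
  swap
  · refine hswap (Equiv.swap 2 3 * Equiv.swap 1 2) ?_
    simp only [hu, hw, uu, ww, dd, Equiv.Perm.coe_mul, Function.comp_apply, Equiv.swap_apply_def] at h4 ⊢
    simp (config := { decide := true }) only [↓reduceIte]
    first | linear_combination h4 | linear_combination -h4
  rcases mul_eq_zero.1 h with h | h3'
  swap
  · refine hswap (Equiv.swap 1 2) ?_
    simp only [hu, hw, uu, ww, dd, Equiv.Perm.coe_mul, Function.comp_apply, Equiv.swap_apply_def] at h3' ⊢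
    simp (config := { decide := true }) only [↓reduceIte]
    first | linear_combination h3' | linear_combination -h3'
  rcases mul_eq_zero.1 h with h1 | h2
  · refine equiv_of_cross la mu la' mu' hd hd' ?_
    linear_combination h1
  · refine hswap (Equiv.swap 1 3) ?_
    simp only [hu, hw, uu, ww, dd, Equiv.Perm.coe_mul, Function.comp_apply, Equiv.swap_apply_def] at h2 ⊢
    simp (config := { decide := true }) only [↓reduceIte]
    first | linear_combination h2 | linear_combination -h2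

/-- The substitution by the inverse matrix undoes a substitution. -/
theorem subst_inv_apply (N : Matrix (Fin 2) (Fin 2) k) (hN : IsUnit N.det) (f : MvPolynomial (Fin 2) k) :
    subst N⁻¹ (subst N f) = f := by
  have key : (subst N⁻¹).comp (subst N) = AlgHom.id k _ := by
    refine MvPolynomial.algHom_ext fun i => ?_
    have e0 := congrFun (congrFun (Matrix.mul_nonsing_inv N hN) i)
    rw [AlgHom.comp_apply, subst, subst, MvPolynomial.aeval_X, map_sum, AlgHom.id_apply]
    simp only [Fin.sum_univ_two, map_mul, map_add, MvPolynomial.algHom_C, MvPolynomial.aeval_X,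
      Matrix.mul_apply] at e0 ⊢
    have a0 := congrArg (C : k →+* MvPolynomial (Fin 2) k) (e0 0)
    have a1 := congrArg (C : k →+* MvPolynomial (Fin 2) k) (e0 1)
    fin_cases i <;> simp [Matrix.one_apply] at a0 a1 ⊢ <;>
      first
      | linear_combination (X 0 : MvPolynomial (Fin 2) k) * a0 + (X 1 : MvPolynomial (Fin 2) k) * a1
  exact AlgHom.congr_fun key f

/-- `X₀² X₁ (X₀ - X₁)` is not a constant multiple of a square. -/
theorem not_const_mul_sq (c : k) (G : MvPolynomial (Fin 2) k) :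
    (X 0 : MvPolynomial (Fin 2) k) ^ 2 * X 1 * (X 0 - X 1) ≠ C c * G ^ 2 := by
  intro h
  let φ : MvPolynomial (Fin 2) k →ₐ[k] Polynomial k := MvPolynomial.aeval ![1, Polynomial.X]
  have e := congrArg φ h
  simp [φ] at e
  set g := MvPolynomial.aeval ![1, (Polynomial.X : Polynomial k)] G
  have hc : c ≠ 0 := by
    rintro rfl
    have := congrArg (fun p => Polynomial.coeff p 1) e
    simp [Polynomial.coeff_X, mul_sub] at this
  have hg : (Polynomial.X : Polynomial k) ∣ g := by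
    rw [Polynomial.X_dvd_iff]
    have := congrArg (fun p => Polynomial.eval 0 p) e
    simp [hc] at this
    rwa [Polynomial.coeff_zero_eq_eval_zero]
  obtain ⟨g', hg'⟩ := hg
  rw [hg'] at e
  have := congrArg (fun p => Polynomial.coeff p 1) e
  simp [Polynomial.coeff_X, mul_sub, mul_pow, pow_two, Polynomial.coeff_C_mul, mul_assoc] at this

theorem lin_prop (la mu : Fin 4 → k) (hne : ∀ i, la i ≠ 0 ∨ mu i ≠ 0) {i j : Fin 4} (h : dd la mu i j = 0) :
    ∃ r : k, r ≠ 0 ∧ lin la mu j = C r * lin la mu i := by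
  simp only [dd] at h
  obtain ⟨r, hr, h1, h2⟩ : ∃ r : k, r ≠ 0 ∧ la j = r * la i ∧ mu j = r * mu i := by
    rcases eq_or_ne (la i) 0 with hi | hi
    · have hmi := (hne i).resolve_left (not_not.2 hi)
      have hlj : la j = 0 := (mul_eq_zero.1 (show la j * mu i = 0 by rw [hi] at h; linear_combination h)).resolve_right hmi
      have hmj := (hne j).resolve_left (not_not.2 hlj)
      exact ⟨mu j / mu i, div_ne_zero hmj hmi, by rw [hi, hlj, mul_zero], by field_simp⟩
    · have hlj : la j ≠ 0 := fun e => by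
        refine (hne j).resolve_left (not_not.2 e) ((mul_eq_zero.1 ?_).resolve_left hi)
        rw [e] at h; linear_combination -h
      exact ⟨la j / la i, div_ne_zero hlj hi, by field_simp, by field_simp; linear_combination -h⟩
  exact ⟨r, hr, by simp only [lin, h1, h2, map_mul]; ring⟩

theorem exists_perm_double (la mu : Fin 4 → k) (hd : disc la mu = 0) :
    ∃ σ : Equiv.Perm (Fin 4), dd (la ∘ σ) (mu ∘ σ) 0 1 = 0 := by
  rw [disc, Finset.prod_eq_zero_iff] at hd
  obtain ⟨⟨i, j⟩, hp, h⟩ := hd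
  rw [Finset.mem_filter] at hp
  obtain ⟨σ, h0, h1⟩ : ∃ σ : Equiv.Perm (Fin 4), σ 0 = i ∧ σ 1 = j := by
    refine ⟨Equiv.swap 0 i * Equiv.swap 1 ((Equiv.swap 0 i) j), ?_, ?_⟩
    · rw [Equiv.Perm.coe_mul, Function.comp_apply, Equiv.swap_apply_of_ne_of_ne (Fin.zero_ne_one) ?_, Equiv.swap_apply_left]
      intro e
      have := congrArg (Equiv.swap 0 i) e
      rw [Equiv.swap_apply_left, Equiv.swap_apply_self] at this
      exact hp.2.ne this
    · rw [Equiv.Perm.coe_mul, Function.comp_apply, Equiv.swap_apply_left, Equiv.swap_apply_self]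
  exact ⟨σ, by simpa [dd, h0, h1] using pow_eq_zero_iff two_ne_zero |>.1 h⟩

/-- Normal forms of quartics with a double but no triple root. -/
theorem xor_normal_forms (la mu : Fin 4 → k) (hne : ∀ i, la i ≠ 0 ∨ mu i ≠ 0) (hd : disc la mu = 0)
    (h3z : ∀ i j l : Fin 4, i ≠ j → j ≠ l → i ≠ l →
      ¬ (la i * mu j = la j * mu i ∧ la j * mu l = la l * mu j)) :
    Xor
      (∃ (M : Matrix (Fin 2) (Fin 2) k) (c : k), IsUnit M.det ∧ c ≠ 0 ∧
        binForm la mu = C c * subst M (X 0 ^ 2 * X 1 * (X 0 - X 1)))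
      (∃ (M : Matrix (Fin 2) (Fin 2) k) (c : k), IsUnit M.det ∧ c ≠ 0 ∧
        binForm la mu = C c * subst M (X 0 ^ 2 * X 1 ^ 2)) := by
  have excl : ¬ ((∃ (M : Matrix (Fin 2) (Fin 2) k) (c : k), IsUnit M.det ∧ c ≠ 0 ∧
        binForm la mu = C c * subst M (X 0 ^ 2 * X 1 * (X 0 - X 1))) ∧
      (∃ (M : Matrix (Fin 2) (Fin 2) k) (c : k), IsUnit M.det ∧ c ≠ 0 ∧
        binForm la mu = C c * subst M (X 0 ^ 2 * X 1 ^ 2))) := by
    rintro ⟨⟨M, c, hM, hc, h1⟩, ⟨N, e, -, -, h2⟩⟩
    refine not_const_mul_sq (e / c) (subst M⁻¹ (subst N (X 0 * X 1))) ?_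
    have h := congrArg (subst M⁻¹) (h1.symm.trans h2)
    simp only [map_mul (subst M⁻¹), subst_C, subst_inv_apply M hM] at h
    refine mul_left_cancel₀ ((map_ne_zero_iff _ (MvPolynomial.C_injective _ _)).2 hc) (h.trans ?_)
    rw [← mul_assoc, ← map_mul, mul_div_cancel₀ _ hc, ← map_pow, ← map_pow, mul_pow]
  suffices hor : _ ∨ _ from (xor_iff_or_and_not_and _ _).2 ⟨hor, excl⟩
  obtain ⟨σ, h01⟩ := exists_perm_double la mu hd
  rw [← binForm_perm la mu σ]
  set la₁ := la ∘ σ with hla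
  set mu₁ := mu ∘ σ with hmu
  have hne₁ : ∀ i, la₁ i ≠ 0 ∨ mu₁ i ≠ 0 := fun i => hne _
  have hnt : ∀ i j l : Fin 4, i ≠ j → j ≠ l → i ≠ l → dd la₁ mu₁ i j = 0 → dd la₁ mu₁ j l ≠ 0 := by
    intro i j l h1 h2 h3 e1 e2
    refine h3z (σ i) (σ j) (σ l) (σ.injective.ne h1) (σ.injective.ne h2) (σ.injective.ne h3) ⟨?_, ?_⟩
    · simp only [hla, hmu, dd, Function.comp_apply] at e1; linear_combination -e1
    · simp only [hla, hmu, dd, Function.comp_apply] at e2; linear_combination -e2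
  obtain ⟨r, hr, hL1⟩ := lin_prop la₁ mu₁ hne₁ h01
  have h12 := hnt 0 1 2 (by decide) (by decide) (by decide) h01
  have h13 := hnt 0 1 3 (by decide) (by decide) (by decide) h01
  have h02 : dd la₁ mu₁ 0 2 ≠ 0 := fun e => h12 (dd_trans la₁ mu₁ hne₁ (dd_symm _ _ h01) e)
  have h03 : dd la₁ mu₁ 0 3 ≠ 0 := fun e => h13 (dd_trans la₁ mu₁ hne₁ (dd_symm _ _ h01) e)
  let mat : k → k → Matrix (Fin 2) (Fin 2) k := fun x y =>
    !![x * mu₁ 0, -(x * la₁ 0); y * mu₁ 2, -(y * la₁ 2)]
  have hdet : ∀ x y, x ≠ 0 → y ≠ 0 → IsUnit (mat x y).det := by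
    intro x y hx hy
    refine isUnit_iff_ne_zero.2 fun e => h02 ?_
    rw [Matrix.det_fin_two_of] at e
    refine (mul_eq_zero.1 (?_ : (x * y) * _ = 0)).resolve_left (mul_ne_zero hx hy)
    simp only [dd]; linear_combination -e
  have hX : ∀ x y, subst (mat x y) (X 0) = C x * lin la₁ mu₁ 0 ∧ subst (mat x y) (X 1) = C y * lin la₁ mu₁ 2 := by
    intro x y
    constructor <;> simp [subst, mat, lin, Fin.sum_univ_two] <;> ring
  rcases eq_or_ne (dd la₁ mu₁ 2 3) 0 with h23 | h23
  · right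
    obtain ⟨s, hs, hL3⟩ := lin_prop la₁ mu₁ hne₁ h23
    refine ⟨mat 1 1, r * s, hdet 1 1 one_ne_zero one_ne_zero, mul_ne_zero hr hs, ?_⟩
    rw [binForm_eq, map_mul (subst (mat 1 1)), map_pow, map_pow, (hX 1 1).1, (hX 1 1).2, hL1, hL3]
    simp only [map_one, map_mul]; ring
  · left
    -- `X₀ ↦ x L₀, X₁ ↦ y L₂` with `L₃` proportional to `x L₀ - y L₂`
    have hy : -dd la₁ mu₁ 0 3 ≠ 0 := neg_ne_zero.2 h03
    have hx : dd la₁ mu₁ 3 2 ≠ 0 := fun e => h23 (dd_symm _ _ e)
    refine ⟨mat (dd la₁ mu₁ 3 2) (-dd la₁ mu₁ 0 3),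
      r / (dd la₁ mu₁ 3 2 ^ 2 * (-dd la₁ mu₁ 0 3) * dd la₁ mu₁ 0 2), hdet _ _ hx hy,
      div_ne_zero hr (mul_ne_zero (mul_ne_zero (pow_ne_zero 2 hx) hy) h02), ?_⟩
    rw [map_mul (subst _), map_mul (subst _), map_pow, map_sub, (hX _ _).1, (hX _ _).2, binForm_eq, hL1]
    have e' : (C (dd la₁ mu₁ 3 2) * lin la₁ mu₁ 0 - C (-dd la₁ mu₁ 0 3) * lin la₁ mu₁ 2) =
        C (dd la₁ mu₁ 0 2) * lin la₁ mu₁ 3 := by
      rw [lin_decomp la₁ mu₁ 0 2 3, map_neg]; ring
    rw [e']
    set x := dd la₁ mu₁ 3 2 with hx'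
    set y := -dd la₁ mu₁ 0 3 with hy'
    set z := dd la₁ mu₁ 0 2 with hz'
    have : C (r / (x ^ 2 * y * z)) * (C x ^ 2 * C y * C z) = (C r : MvPolynomial (Fin 2) k) := by
      rw [← map_pow, ← map_mul, ← map_mul, ← map_mul, div_mul_cancel₀ _ (mul_ne_zero (mul_ne_zero (pow_ne_zero 2 hx) hy) h02)]
    linear_combination -(lin la₁ mu₁ 0 ^ 2 * lin la₁ mu₁ 2 * lin la₁ mu₁ 3) * this

end GrothLib.Quartic
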